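import Mathlib
import Groth.Prelude.Def_W4c3biextchowCx

/-!
# Homology of complexes of modules on elements, and the groupoid of a complex
-/

set_option autoImplicit false
set_option backward.isDefEq.respectTransparency false

universe v u

open CategoryTheory HomologicalComplex W4c3biextchow

noncomputable section

namespace Groth.Agent.CxGrpdLib

variable {R : Type u} [Ring R] {ι : Type} {c : ComplexShape ι}
  {K L : HomologicalComplex (ModuleCat.{v} R) c}

theorem iCycles_injective (j : ι) : Function.Injective (K.iCycles j).hom :=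
  (ModuleCat.mono_iff_injective _).1 inferInstance

theorem homologyπ_surjective (j : ι) : Function.Surjective (K.homologyπ j).hom :=
  (ModuleCat.epi_iff_surjective _).1 inferInstance

theorem exists_cycle {j k : ι} (hk : c.next j = k) (x : K.X j) (hx : (K.d j k).hom x = 0) :
    ∃ z : K.cycles j, (K.iCycles j).hom z = x := by
  subst hk
  refine ⟨(K.sc j).moduleCatCyclesIso.inv.hom ⟨x, hx⟩, ?_⟩
  have h := congrArg (fun φ => φ.hom (⟨x, hx⟩ : LinearMap.ker (K.sc j).g.hom)) (K.sc j).moduleCatCyclesIso_inv_iCycles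
  exact h

theorem d_iCycles {j k : ι} (z : K.cycles j) : (K.d j k).hom ((K.iCycles j).hom z) = 0 :=
  congrArg (fun φ => φ.hom z) (K.iCycles_d j k)

theorem homologyπ_eq_zero_iff {i j : ι} (hi : c.prev j = i) (z : K.cycles j) :
    (K.homologyπ j).hom z = 0 ↔ ∃ w : K.X i, (K.d i j).hom w = (K.iCycles j).hom z := by
  have hexact := ShortComplex.exact_of_g_is_cokernel
    (ShortComplex.mk (K.toCycles i j) (K.homologyπ j) (K.toCycles_comp_homologyπ i j))
    (K.homologyIsCokernel i j hi)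
  rw [ShortComplex.moduleCat_exact_iff] at hexact
  have hti : ∀ w, (K.iCycles j).hom ((K.toCycles i j).hom w) = (K.d i j).hom w := fun w =>
    congrArg (fun φ => φ.hom w) (K.toCycles_i i j)
  constructor
  · intro h
    obtain ⟨w, hw⟩ := hexact z h
    refine ⟨w, ?_⟩
    rw [← hti]
    exact congrArg _ hw
  · rintro ⟨w, hw⟩
    rw [show z = (K.toCycles i j).hom w from iCycles_injective j (by rw [hti]; exact hw.symm)]
    exact congrArg (fun φ => φ.hom w) (K.toCycles_comp_homologyπ i j)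

theorem map_iCycles (φ : K ⟶ L) (j : ι) (z : K.cycles j) :
    (L.iCycles j).hom ((cyclesMap φ j).hom z) = (φ.f j).hom ((K.iCycles j).hom z) :=
  congrArg (fun ψ => ψ.hom z) (cyclesMap_i φ j)

theorem map_π (φ : K ⟶ L) (j : ι) (z : K.cycles j) :
    (homologyMap φ j).hom ((K.homologyπ j).hom z) = (L.homologyπ j).hom ((cyclesMap φ j).hom z) :=
  congrArg (fun ψ => ψ.hom z) (homologyπ_naturality φ j)

theorem mono_iff (φ : K ⟶ L) {i j k : ι} (hi : c.prev j = i) (hk : c.next j = k) :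
    Mono (homologyMap φ j) ↔ ∀ x : K.X j, (K.d j k).hom x = 0 →
      (∃ w, (L.d i j).hom w = (φ.f j).hom x) → ∃ u, (K.d i j).hom u = x := by
  rw [ModuleCat.mono_iff_injective]
  constructor
  · intro h x hx hw
    obtain ⟨z, rfl⟩ := exists_cycle hk x hx
    rw [← map_iCycles, ← homologyπ_eq_zero_iff hi, ← map_π] at hw
    exact (homologyπ_eq_zero_iff hi z).1 (h (hw.trans (map_zero _).symm))
  · intro h
    refine (injective_iff_map_eq_zero (homologyMap φ j).hom).2 fun a ha => ?_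
    obtain ⟨z, rfl⟩ := homologyπ_surjective j a
    rw [map_π, homologyπ_eq_zero_iff hi, map_iCycles] at ha
    exact (homologyπ_eq_zero_iff hi z).2 (h _ (d_iCycles z) ha)

theorem epi_iff (φ : K ⟶ L) {i j k : ι} (hi : c.prev j = i) (hk : c.next j = k) :
    Epi (homologyMap φ j) ↔ ∀ y : L.X j, (L.d j k).hom y = 0 →
      ∃ x : K.X j, (K.d j k).hom x = 0 ∧ ∃ w, (L.d i j).hom w = y - (φ.f j).hom x := by
  rw [ModuleCat.epi_iff_surjective]
  constructor
  · intro h y hy
    obtain ⟨z, rfl⟩ := exists_cycle hk y hy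
    obtain ⟨a, ha⟩ := h ((L.homologyπ j).hom z)
    obtain ⟨z', rfl⟩ := homologyπ_surjective j a
    refine ⟨(K.iCycles j).hom z', d_iCycles z', ?_⟩
    rw [← map_iCycles, ← map_sub, ← homologyπ_eq_zero_iff hi, map_sub, ← map_π, ← sub_eq_zero.2 ha.symm]
  · intro h a
    obtain ⟨z, rfl⟩ := homologyπ_surjective j a
    obtain ⟨x, hx, hw⟩ := h _ (d_iCycles z)
    obtain ⟨z', rfl⟩ := exists_cycle hk x hx
    refine ⟨(K.homologyπ j).hom z', ?_⟩
    rw [← map_iCycles, ← map_sub, ← homologyπ_eq_zero_iff hi, map_sub, ← map_π, sub_eq_zero] at hw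
    exact hw.symm

variable {C D : ChainComplex (ModuleCat.{v} R) ℕ} (f : C ⟶ D)

theorem d_zero_zero (x : C.X 0) : (C.d 0 0).hom x = 0 := by rw [C.shape 0 0 (by simp)]; rfl

theorem mono_one : Mono (homologyMap f 1) ↔ ∀ x : C.X 1, (C.d 1 0).hom x = 0 →
    (∃ w, (D.d 2 1).hom w = (f.f 1).hom x) → ∃ u, (C.d 2 1).hom u = x :=
  mono_iff f (by simp) (by simp)

theorem epi_one : Epi (homologyMap f 1) ↔ ∀ y : D.X 1, (D.d 1 0).hom y = 0 →
    ∃ x : C.X 1, (C.d 1 0).hom x = 0 ∧ ∃ w, (D.d 2 1).hom w = y - (f.f 1).hom x :=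
  epi_iff f (by simp) (by simp)

theorem mono_zero : Mono (homologyMap f 0) ↔ ∀ x : C.X 0,
    (∃ w, (D.d 1 0).hom w = (f.f 0).hom x) → ∃ u, (C.d 1 0).hom u = x := by
  rw [mono_iff f (i := 1) (j := 0) (k := 0) (by simp) (by simp)]
  exact ⟨fun h x => h x (d_zero_zero x), fun h x _ => h x⟩

theorem epi_zero : Epi (homologyMap f 0) ↔ ∀ y : D.X 0,
    ∃ x : C.X 0, ∃ w, (D.d 1 0).hom w = y - (f.f 0).hom x := by
  rw [epi_iff f (i := 1) (j := 0) (k := 0) (by simp) (by simp)]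
  exact ⟨fun h y => let ⟨x, _, hx⟩ := h y (d_zero_zero y); ⟨x, hx⟩,
    fun h y _ => let ⟨x, hx⟩ := h y; ⟨x, d_zero_zero x, hx⟩⟩

theorem faithful_iff : (cxFunctor f).Faithful ↔ Mono (homologyMap f 1) := by
  rw [mono_one]
  constructor
  · intro h x hx ⟨w, hw⟩
    let o : Obj C := ⟨0⟩
    let φ : o ⟶ o := (⟨Submodule.Quotient.mk x, by rw [delta_mk, hx, sub_self]⟩ : Hom C o o)
    have e : (cxFunctor f).map φ = (cxFunctor f).map (𝟙 o) := Hom.ext (by
      rw [cxFunctor_map_cl, cxFunctor_map_cl, id_cl, map_zero]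
      show q1Map f (Submodule.Quotient.mk x) = 0
      rw [q1Map_mk, Submodule.Quotient.mk_eq_zero]
      exact ⟨w, hw⟩)
    have e' := congrArg (fun ψ : o ⟶ o => (ψ : Hom C o o).cl) (h.map_injective e)
    exact (Submodule.Quotient.mk_eq_zero _).1 e'
  · intro h
    refine ⟨fun {a b} φ ψ e => Hom.ext ?_⟩
    have e' : q1Map f (φ : Hom C a b).cl = q1Map f (ψ : Hom C a b).cl :=
      congrArg (fun χ => (χ : Hom D ((cxFunctor f).obj a) ((cxFunctor f).obj b)).cl) e
    obtain ⟨x, hx⟩ := Submodule.Quotient.mk_surjective _ ((φ : Hom C a b).cl - (ψ : Hom C a b).cl)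
    have hd : (C.d 1 0).hom x = 0 := by
      rw [← delta_mk, hx, map_sub, (φ : Hom C a b).delta_cl, (ψ : Hom C a b).delta_cl, sub_self]
    have hw : q1Map f (Submodule.Quotient.mk x) = 0 := by rw [hx, map_sub, e', sub_self]
    rw [q1Map_mk, Submodule.Quotient.mk_eq_zero] at hw
    rw [← sub_eq_zero, ← hx, Submodule.Quotient.mk_eq_zero]
    exact h x hd hw

theorem full_iff : (cxFunctor f).Full ↔ Epi (homologyMap f 1) ∧ Mono (homologyMap f 0) := by
  rw [epi_one, mono_zero]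
  constructor
  · intro h
    refine ⟨fun y hy => ?_, fun x ⟨w, hw⟩ => ?_⟩
    · let o : Obj C := ⟨0⟩
      let ψ : (cxFunctor f).obj o ⟶ (cxFunctor f).obj o :=
        (⟨Submodule.Quotient.mk y, by rw [delta_mk, hy, sub_self]⟩ : Hom D ((cxFunctor f).obj o) ((cxFunctor f).obj o))
      obtain ⟨φ, hφ⟩ := h.map_surjective ψ
      obtain ⟨x, hx⟩ := Submodule.Quotient.mk_surjective _ (φ : Hom C o o).cl
      refine ⟨x, by rw [← delta_mk, hx, (φ : Hom C o o).delta_cl, sub_self], ?_⟩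
      have e : q1Map f (φ : Hom C o o).cl = Submodule.Quotient.mk y :=
        congrArg (fun χ => (χ : Hom D ((cxFunctor f).obj o) ((cxFunctor f).obj o)).cl) hφ
      rw [← hx, q1Map_mk] at e
      exact (Submodule.Quotient.eq _).1 e.symm
    · let a : Obj C := ⟨0⟩
      let b : Obj C := ⟨x⟩
      let ψ : (cxFunctor f).obj a ⟶ (cxFunctor f).obj b :=
        (⟨Submodule.Quotient.mk w, by
          rw [delta_mk, hw, cxFunctor_obj_pt, cxFunctor_obj_pt, map_zero, sub_zero]⟩ :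
          Hom D ((cxFunctor f).obj a) ((cxFunctor f).obj b))
      obtain ⟨φ, -⟩ := h.map_surjective ψ
      obtain ⟨u, hu⟩ := Submodule.Quotient.mk_surjective _ (φ : Hom C a b).cl
      exact ⟨u, by rw [← delta_mk, hu, (φ : Hom C a b).delta_cl]; exact sub_zero x⟩
  · rintro ⟨h1, h0⟩
    refine ⟨fun {a b} ψ => ?_⟩
    obtain ⟨y, hy⟩ := Submodule.Quotient.mk_surjective _ (ψ : Hom D ((cxFunctor f).obj a) ((cxFunctor f).obj b)).cl
    have hdy : (D.d 1 0).hom y = (f.f 0).hom (b.pt - a.pt) := by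
      rw [← delta_mk, hy, (ψ : Hom D ((cxFunctor f).obj a) ((cxFunctor f).obj b)).delta_cl, map_sub]
      rfl
    obtain ⟨u, hu⟩ := h0 _ ⟨y, hdy⟩
    have hcomm : ∀ v, (D.d 1 0).hom ((f.f 1).hom v) = (f.f 0).hom ((C.d 1 0).hom v) := fun v =>
      congrArg (fun φ => φ.hom v) (f.comm 1 0)
    obtain ⟨x, hx, w, hw⟩ := h1 (y - (f.f 1).hom u) (by rw [map_sub, hcomm, hdy, hu, sub_self])
    refine ⟨(⟨Submodule.Quotient.mk (u + x), by rw [delta_mk, map_add, hu, hx, add_zero]⟩ : Hom C a b), Hom.ext ?_⟩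
    show q1Map f (Submodule.Quotient.mk (u + x)) = _
    rw [q1Map_mk, ← hy, eq_comm, Submodule.Quotient.eq]
    exact ⟨w, by rw [hw, map_add]; abel⟩

theorem essSurj_iff : (cxFunctor f).EssSurj ↔ Epi (homologyMap f 0) := by
  rw [epi_zero]
  constructor
  · intro h y
    obtain ⟨x, ⟨e⟩⟩ := h.mem_essImage (⟨y⟩ : Obj D)
    obtain ⟨w, hw⟩ := Submodule.Quotient.mk_surjective _ (e.hom : Hom D ((cxFunctor f).obj x) ⟨y⟩).cl
    exact ⟨x.pt, w, by rw [← delta_mk, hw, (e.hom : Hom D ((cxFunctor f).obj x) ⟨y⟩).delta_cl]; rfl⟩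
  · intro h
    refine ⟨fun o => ?_⟩
    obtain ⟨x, w, hw⟩ := h o.pt
    refine ⟨⟨x⟩, ⟨⟨(⟨Submodule.Quotient.mk w, by rw [delta_mk, hw]; rfl⟩ : Hom D ((cxFunctor f).obj ⟨x⟩) o),
      (⟨-Submodule.Quotient.mk w, by
        rw [map_neg, delta_mk, hw, neg_sub]; rfl⟩ : Hom D o ((cxFunctor f).obj ⟨x⟩)), Hom.ext ?_, Hom.ext ?_⟩⟩⟩
    · show Submodule.Quotient.mk w + -Submodule.Quotient.mk w = (0 : Q1 D)
      exact add_neg_cancel _
    · show -Submodule.Quotient.mk w + Submodule.Quotient.mk w = (0 : Q1 D)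
      exact neg_add_cancel _

end Groth.Agent.CxGrpdLib
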